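import Groth.Agent.PerfColim.Mat
import Groth.Agent.DRingKP.BC
import Mathlib.Algebra.Category.Ring.FilteredColimits
import Mathlib.Data.Int.Interval

/-!
Descent of perfect complexes along filtered colimits of rings.
-/

set_option autoImplicit false
set_option backward.isDefEq.respectTransparency false
set_option linter.style.haveILetI false
universe u

open CategoryTheory CategoryTheory.Limits
open scoped Matrix

attribute [local instance] HasDerivedCategory.standard

noncomputable section

namespace Groth.Agent.PerfColim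

variable {J : Type u} [SmallCategory J] [IsFiltered J] {F : J ⥤ CommRingCat.{u}} {c : Cocone F}
  (hc : IsColimit c)

include hc in
/-- finitely many elements come from one stage -/
lemma exists_stage {ι : Type*} [Finite ι] (x : ι → c.pt) :
    ∃ (j : J) (y : ι → F.obj j), ∀ i, (c.ι.app j).hom (y i) = x i := by
  classical
  haveI := Fintype.ofFinite ι
  choose j y hy using fun i => Concrete.isColimit_exists_rep F hc (x i)
  obtain ⟨k, hk⟩ := IsFiltered.sup_objs_exists (Finset.univ.image j)
  let f : ∀ i, j i ⟶ k := fun i => (hk (X := j i) (by simp)).some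
  refine ⟨k, fun i => (F.map (f i)).hom (y i), fun i => ?_⟩
  rw [← hy i]
  exact congr(($(c.w (f i))).hom (y i))

include hc in
/-- finitely many equations hold at one stage -/
lemma exists_stage_eq {ι : Type*} [Finite ι] (j : J) (x y : ι → F.obj j)
    (h : ∀ i, (c.ι.app j).hom (x i) = (c.ι.app j).hom (y i)) :
    ∃ (k : J) (f : j ⟶ k), ∀ i, (F.map f).hom (x i) = (F.map f).hom (y i) := by
  classical
  haveI := Fintype.ofFinite ι
  suffices ∀ s : Finset ι, ∃ (k : J) (f : j ⟶ k), ∀ i ∈ s, (F.map f).hom (x i) = (F.map f).hom (y i) by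
    obtain ⟨k, f, hf⟩ := this Finset.univ
    exact ⟨k, f, fun i => hf i (Finset.mem_univ i)⟩
  intro s
  induction s using Finset.induction_on with
  | empty => exact ⟨j, 𝟙 j, by simp⟩
  | insert a s _ ih =>
    obtain ⟨k, f, hf⟩ := ih
    have h1 : ∀ z, (c.ι.app k).hom ((F.map f).hom z) = (c.ι.app j).hom z := fun z =>
      congr(($(c.w f)).hom z)
    obtain ⟨l, g, g', hg⟩ := (Concrete.isColimit_rep_eq_iff_exists F hc ((F.map f).hom (x a))
      ((F.map f).hom (y a))).1 ((h1 _).trans ((h a).trans (h1 _).symm))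
    refine ⟨IsFiltered.coeq g g', f ≫ g ≫ IsFiltered.coeqHom g g', fun i hi => ?_⟩
    obtain rfl | hi := Finset.mem_insert.1 hi
    · have e : F.map (g ≫ IsFiltered.coeqHom g g') = F.map (g' ≫ IsFiltered.coeqHom g g') := by
        rw [IsFiltered.coeq_condition]
      simp only [F.map_comp, CommRingCat.hom_comp, RingHom.comp_apply]
      have e' := congr(($e).hom ((F.map f).hom (y i)))
      simp only [F.map_comp, CommRingCat.hom_comp, RingHom.comp_apply] at e'
      rw [e']
      exact congrArg _ hg
    · simp only [F.map_comp, CommRingCat.hom_comp, RingHom.comp_apply]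
      rw [hf i hi]

include hc in
/-- data descend to a stage -/
theorem exists_data_stage (D : Data c.pt) (a b : ℤ) (hn : ∀ i, i < a ∨ b < i → D.n i = 0) :
    ∃ (j : J) (D' : Data (F.obj j)), (∀ i, i < a ∨ b < i → D'.n i = 0) ∧
      D'.map (c.ι.app j).hom = D := by
  classical
  let I := {i : ℤ // i ∈ Finset.Icc a b}
  have hout : ∀ {i : ℤ}, i ∉ Finset.Icc a b → IsEmpty (Fin (D.n i)) := fun {i} hi => by
    rw [Finset.mem_Icc] at hi
    rw [hn i (by lia)]
    infer_instance
  let E := Σ i : I, Fin (D.n i) × Fin (D.n i)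
  let G := Σ i : I, Fin (D.n (i + 1)) × Fin (D.n i)
  obtain ⟨j, y, hy⟩ := exists_stage hc
    (Sum.elim (fun z : E => D.e z.1 z.2.1 z.2.2) (fun z : G => D.d z.1 z.2.1 z.2.2))
  let e : ∀ i, Matrix (Fin (D.n i)) (Fin (D.n i)) (F.obj j) := fun i p q =>
    if h : i ∈ Finset.Icc a b then y (.inl ⟨⟨i, h⟩, p, q⟩) else 0
  let d : ∀ i, Matrix (Fin (D.n (i + 1))) (Fin (D.n i)) (F.obj j) := fun i p q =>
    if h : i ∈ Finset.Icc a b then y (.inr ⟨⟨i, h⟩, p, q⟩) else 0
  have he : ∀ i, (e i).map (c.ι.app j).hom = D.e i := fun i => by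
    by_cases h : i ∈ Finset.Icc a b
    · ext p q
      simp only [Matrix.map_apply, e, dif_pos h]
      exact hy _
    · haveI := hout h
      exact Subsingleton.elim _ _
  have hd : ∀ i, (d i).map (c.ι.app j).hom = D.d i := fun i => by
    by_cases h : i ∈ Finset.Icc a b
    · ext p q
      simp only [Matrix.map_apply, d, dif_pos h]
      exact hy _
    · haveI := hout h
      exact Subsingleton.elim _ _
  let H := Σ i : I, Fin (D.n (i + 1 + 1)) × Fin (D.n i)
  obtain ⟨k, f, hf⟩ := exists_stage_eq hc j
    (Sum.elim (Sum.elim (fun z : E => (e z.1 * e z.1) z.2.1 z.2.2)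
        (fun z : G => (e (z.1 + 1) * d z.1) z.2.1 z.2.2))
      (Sum.elim (fun z : G => (d z.1 * e z.1) z.2.1 z.2.2)
        (fun z : H => (d (z.1 + 1) * d z.1) z.2.1 z.2.2)))
    (Sum.elim (Sum.elim (fun z : E => e z.1 z.2.1 z.2.2) (fun z : G => d z.1 z.2.1 z.2.2))
      (Sum.elim (fun z : G => d z.1 z.2.1 z.2.2) (fun _ : H => 0))) (by
    rintro ((z | z) | (z | z)) <;> simp only [Sum.elim_inl, Sum.elim_inr, map_zero]
    · have h := D.idem z.1
      rw [← he, ← Matrix.map_mul] at h
      exact congr_fun (congr_fun h z.2.1) z.2.2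
    · have h := D.ed z.1
      rw [← he, ← hd, ← Matrix.map_mul] at h
      exact congr_fun (congr_fun h z.2.1) z.2.2
    · have h := D.de z.1
      rw [← he, ← hd, ← Matrix.map_mul] at h
      exact congr_fun (congr_fun h z.2.1) z.2.2
    · have h := D.dd z.1
      rw [← hd, ← hd, ← Matrix.map_mul] at h
      exact congr_fun (congr_fun h z.2.1) z.2.2)
  let ψ := (F.map f).hom
  refine ⟨k, { n := D.n
               e := fun i => (e i).map ψ
               d := fun i => (d i).map ψ
               idem := fun i => ?_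
               ed := fun i => ?_
               de := fun i => ?_
               dd := fun i => ?_ }, hn, ?_⟩
  · rw [← Matrix.map_mul]
    by_cases h : i ∈ Finset.Icc a b
    · ext p q
      exact hf (.inl (.inl ⟨⟨i, h⟩, p, q⟩))
    · haveI := hout h
      exact Subsingleton.elim _ _
  · rw [← Matrix.map_mul]
    by_cases h : i ∈ Finset.Icc a b
    · ext p q
      exact hf (.inl (.inr ⟨⟨i, h⟩, p, q⟩))
    · haveI := hout h
      exact Subsingleton.elim _ _
  · rw [← Matrix.map_mul]
    by_cases h : i ∈ Finset.Icc a b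
    · ext p q
      exact hf (.inr (.inl ⟨⟨i, h⟩, p, q⟩))
    · haveI := hout h
      exact Subsingleton.elim _ _
  · rw [← Matrix.map_mul]
    by_cases h : i ∈ Finset.Icc a b
    · ext p q
      simpa using hf (.inr (.inr ⟨⟨i, h⟩, p, q⟩))
    · haveI := hout h
      exact Subsingleton.elim _ _
  · have h1 : ∀ x, (c.ι.app k).hom (ψ x) = (c.ι.app j).hom x := fun x => congr(($(c.w f)).hom x)
    obtain ⟨n, e₀, d₀, _, _, _, _⟩ := D
    simp only [Data.map, Matrix.map_map, Data.mk.injEq, heq_eq_eq, true_and]
    exact ⟨funext fun i => (congrArg (e i).map (funext h1)).trans (he i),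
      funext fun i => (congrArg (d i).map (funext h1)).trans (hd i)⟩

end Groth.Agent.PerfColim
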