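import Groth.Prelude.Def_DRing2
import Groth.Prelude.Def_DDual2
import Mathlib.LinearAlgebra.Matrix.ToLin
import Mathlib.Algebra.Category.ModuleCat.ChangeOfRings

/-!
Complexes of direct summands of finite free modules, given by matrices, and their base change.
-/

set_option autoImplicit false
set_option backward.isDefEq.respectTransparency false
set_option linter.style.haveILetI false
universe u

open CategoryTheory CategoryTheory.Limits
open scoped Matrix ChangeOfRings TensorProduct

noncomputable section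

namespace Groth.Agent.PerfColim

variable (R : Type u) [CommRing R]

/-- the data of a complex of direct summands of `R^n` -/
structure Data where
  n : ℤ → ℕ
  e : ∀ i : ℤ, Matrix (Fin (n i)) (Fin (n i)) R
  d : ∀ i : ℤ, Matrix (Fin (n (i + 1))) (Fin (n i)) R
  idem : ∀ i, e i * e i = e i
  ed : ∀ i, e (i + 1) * d i = d i
  de : ∀ i, d i * e i = d i
  dd : ∀ i, d (i + 1) * d i = 0

variable {R}

namespace Data

variable (D : Data R)

/-- the terms -/
def obj (i : ℤ) : ModuleCat.{u} R := ModuleCat.of R (LinearMap.range (Matrix.mulVecLin (D.e i)))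

lemma mem_iff (i : ℤ) (v : Fin (D.n i) → R) :
    v ∈ LinearMap.range (Matrix.mulVecLin (D.e i)) ↔ D.e i *ᵥ v = v := by
  constructor
  · rintro ⟨w, rfl⟩
    simp [Matrix.mulVec_mulVec, D.idem]
  · exact fun h => ⟨v, h⟩

/-- the differentials -/
def diff (i : ℤ) : D.obj i ⟶ D.obj (i + 1) :=
  ModuleCat.ofHom (LinearMap.restrict (Matrix.mulVecLin (D.d i))
    (p := LinearMap.range (Matrix.mulVecLin (D.e i))) (q := LinearMap.range (Matrix.mulVecLin (D.e (i + 1))))
    fun v _ => (D.mem_iff _ _).2 (by simp [Matrix.mulVec_mulVec, D.ed]))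

lemma diff_diff (i : ℤ) : D.diff i ≫ D.diff (i + 1) = 0 :=
  ModuleCat.hom_ext (LinearMap.ext fun v => Subtype.ext (by
    show D.d (i + 1) *ᵥ (D.d i *ᵥ v.1) = 0
    simp [Matrix.mulVec_mulVec, D.dd]))

/-- the complex -/
def cx : DRing.Cx R := CochainComplex.of D.obj D.diff D.diff_diff

lemma cx_d (i : ℤ) : D.cx.d i (i + 1) = D.diff i := CochainComplex.of_d _ _ _

/-- the inclusion into the free module -/
def inc (i : ℤ) : D.obj i ⟶ ModuleCat.of R (Fin (D.n i) → R) :=
  ModuleCat.ofHom (LinearMap.range (Matrix.mulVecLin (D.e i))).subtype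

/-- the projection from the free module -/
def prj (i : ℤ) : ModuleCat.of R (Fin (D.n i) → R) ⟶ D.obj i :=
  ModuleCat.ofHom (Matrix.mulVecLin (D.e i)).rangeRestrict

lemma termwiseFiniteProjective : DRing.TermwiseFiniteProjective D.cx := fun i => by
  show Module.Finite R (LinearMap.range (Matrix.mulVecLin (D.e i))) ∧
    Module.Projective R (LinearMap.range (Matrix.mulVecLin (D.e i)))
  refine ⟨Module.Finite.range _, Module.Projective.of_split
    (LinearMap.range (Matrix.mulVecLin (D.e i))).subtype (Matrix.mulVecLin (D.e i)).rangeRestrict ?_⟩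
  exact LinearMap.ext fun v => Subtype.ext ((D.mem_iff i _).1 v.2)

lemma isZero_X {i : ℤ} (h : D.n i = 0) : IsZero (D.cx.X i) := by
  haveI : IsEmpty (Fin (D.n i)) := by rw [h]; infer_instance
  haveI : Subsingleton (D.obj i) :=
    inferInstanceAs (Subsingleton (LinearMap.range (Matrix.mulVecLin (D.e i))))
  exact ModuleCat.isZero_of_subsingleton (D.obj i)

/-- the image of the data along a ring map -/
def map {S : Type u} [CommRing S] (φ : R →+* S) : Data S where
  n := D.n
  e i := (D.e i).map φ
  d i := (D.d i).map φ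
  idem i := by rw [← Matrix.map_mul, D.idem]
  ed i := by rw [← Matrix.map_mul, D.ed]
  de i := by rw [← Matrix.map_mul, D.de]
  dd i := by rw [← Matrix.map_mul, D.dd]; simp

/-- recognising the complex -/
theorem exists_iso (E : DRing.Cx R) (s : ∀ i, E.X i →ₗ[R] (Fin (D.n i) → R))
    (p : ∀ i, (Fin (D.n i) → R) →ₗ[R] E.X i) (hps : ∀ i x, p i (s i x) = x)
    (hsp : ∀ i v, s i (p i v) = D.e i *ᵥ v)
    (hd : ∀ i v, s (i + 1) ((E.d i (i + 1)).hom (p i v)) = D.d i *ᵥ v) :
    Nonempty (E ≅ D.cx) := by
  let f : ∀ i, E.X i ≅ D.cx.X i := fun i => LinearEquiv.toModuleIso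
    { toFun := fun x => (⟨s i x, (D.mem_iff i _).2 (by rw [← hsp, hps])⟩ :
          LinearMap.range (Matrix.mulVecLin (D.e i)))
      map_add' := fun x y => Subtype.ext (map_add _ _ _)
      map_smul' := fun r x => Subtype.ext (map_smul _ _ _)
      invFun := fun v => p i v.1
      left_inv := hps i
      right_inv := fun v => Subtype.ext ((hsp i _).trans ((D.mem_iff i _).1 v.2)) }
  refine ⟨HomologicalComplex.Hom.isoOfComponents f ?_⟩
  rintro i _ rfl
  rw [D.cx_d]
  refine ModuleCat.hom_ext (LinearMap.ext fun x => Subtype.ext ?_)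
  show D.d i *ᵥ s i x = s (i + 1) ((E.d i (i + 1)).hom x)
  rw [← hd, hps]

end Data

/-- a complex of finite projective modules comes from data -/
theorem exists_data (E : DRing.Cx R) (a b : ℤ) (hE : DRing.VanishesOutside E a b)
    (hp : DRing.TermwiseFiniteProjective E) :
    ∃ D : Data R, (∀ i, i < a ∨ b < i → D.n i = 0) ∧ Nonempty (E ≅ D.cx) := by
  have h : ∀ i, ∃ (n : ℕ) (p : (Fin n → R) →ₗ[R] E.X i) (s : E.X i →ₗ[R] (Fin n → R)),
      (∀ x, p (s x) = x) ∧ (i < a ∨ b < i → n = 0) := fun i => by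
    by_cases hi : i < a ∨ b < i
    · haveI := ModuleCat.subsingleton_of_isZero (hE i hi)
      exact ⟨0, 0, 0, fun x => Subsingleton.elim _ _, fun _ => rfl⟩
    · haveI := (hp i).1
      haveI := (hp i).2
      obtain ⟨n, p, hps⟩ := Module.Finite.exists_fin' R (E.X i)
      obtain ⟨s, hs⟩ := Module.projective_lifting_property p LinearMap.id hps
      exact ⟨n, p, s, LinearMap.congr_fun hs, fun h => absurd h hi⟩
  choose n p s hps hn using h
  let e : ∀ i, (Fin (n i) → R) →ₗ[R] (Fin (n i) → R) := fun i => (s i).comp (p i)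
  let d : ∀ i, (Fin (n i) → R) →ₗ[R] (Fin (n (i + 1)) → R) := fun i =>
    (s (i + 1)).comp ((E.d i (i + 1)).hom.comp (p i))
  let D : Data R :=
    { n := n
      e := fun i => LinearMap.toMatrix' (e i)
      d := fun i => LinearMap.toMatrix' (d i)
      idem := fun i => by
        rw [← LinearMap.toMatrix'_comp]
        congr 1
        exact LinearMap.ext fun v => by simp [e, hps]
      ed := fun i => by
        rw [← LinearMap.toMatrix'_comp]
        congr 1
        exact LinearMap.ext fun v => by simp [e, d, hps]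
      de := fun i => by
        rw [← LinearMap.toMatrix'_comp]
        congr 1
        exact LinearMap.ext fun v => by simp [e, d, hps]
      dd := fun i => by
        rw [← LinearMap.toMatrix'_comp, ← LinearEquiv.map_zero LinearMap.toMatrix']
        congr 1
        refine LinearMap.ext fun v => ?_
        show s _ ((E.d (i + 1) (i + 1 + 1)).hom (p _ (s _ ((E.d i (i + 1)).hom (p i v))))) = 0
        rw [hps]
        have h0 : (E.d (i + 1) (i + 1 + 1)).hom ((E.d i (i + 1)).hom (p i v)) = 0 :=
          congr(($(E.d_comp_d i (i + 1) (i + 1 + 1))).hom (p i v))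
        rw [h0, map_zero] }
  exact ⟨D, hn, D.exists_iso E s p hps (fun i v => (LinearMap.toMatrix'_mulVec (e i) v).symm)
    fun i v => (LinearMap.toMatrix'_mulVec (d i) v).symm⟩

section BaseChange

variable {S : Type u} [CommRing S] (φ : R →+* S)

/-- the coordinates of an element of an extension of scalars of a free module -/
def coordHom (n : ℕ) :
    (ModuleCat.extendScalars.{u, u, u} φ).obj (ModuleCat.of R (Fin n → R)) ⟶ ModuleCat.of S (Fin n → S) :=
  ((ModuleCat.extendRestrictScalarsAdj.{u, u, u} φ).homEquiv _ _).symm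
    (ModuleCat.ofHom (Y := (ModuleCat.restrictScalars.{u} φ).obj (ModuleCat.of S (Fin n → S)))
      { toFun := fun v j => φ (v j)
        map_add' := fun v w => funext fun j => map_add φ _ _
        map_smul' := fun r v => funext fun j => map_mul φ _ _ })

lemma coordHom_one_tmul (n : ℕ) (v : Fin n → R) :
    (coordHom φ n).hom ((1 : S) ⊗ₜ[R,φ] v : _) = fun j => φ (v j) := by
  have h := ModuleCat.extendRestrictScalarsAdj_homEquiv_apply (coordHom φ n) v
  rw [coordHom, Equiv.apply_symm_apply] at h
  exact h.symm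

/-- base change of the complex of data -/
theorem exists_bc_iso (D : Data R) :
    Nonempty (((ModuleCat.extendScalars.{u, u, u} φ).mapHomologicalComplex (ComplexShape.up ℤ)).obj D.cx ≅
      (D.map φ).cx) := by
  let F := ModuleCat.extendScalars.{u, u, u} φ
  let s : ∀ i, F.obj (D.obj i) ⟶ ModuleCat.of S (Fin (D.n i) → S) := fun i =>
    F.map (D.inc i) ≫ coordHom φ _
  have hs : ∀ i (x : D.obj i), (s i).hom ((1 : S) ⊗ₜ[R,φ] x : _) = fun j => φ (x.1 j) := fun i x =>
    coordHom_one_tmul φ _ _
  let g : ∀ i, Fin (D.n i) → F.obj (D.obj i) := fun i j =>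
    ((1 : S) ⊗ₜ[R,φ] ((D.prj i).hom (Pi.single j 1)) : _)
  let p : ∀ i, (Fin (D.n i) → S) →ₗ[S] F.obj (D.obj i) := fun i => Fintype.linearCombination S (g i)
  have hp : ∀ i j, p i (Pi.single j 1) = g i j := fun i j => by
    simp [p, Fintype.linearCombination_apply_single]
  have key : ∀ i (v : Fin (D.n i) → R), p i (fun j => φ (v j)) = ((1 : S) ⊗ₜ[R,φ] (D.prj i).hom v : _) := by
    intro i v
    let η := (ModuleCat.extendRestrictScalarsAdj.{u, u, u} φ).unit.app (D.obj i)
    let q : (Fin (D.n i) → R) →ₗ[R] (ModuleCat.restrictScalars.{u} φ).obj (F.obj (D.obj i)) :=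
      η.hom.comp (D.prj i).hom
    rw [Fintype.linearCombination_apply]
    show ∑ j, φ (v j) • g i j = q v
    conv_rhs => rw [pi_eq_sum_univ' v, map_sum]
    refine Finset.sum_congr rfl fun j _ => ?_
    exact (q.map_smul (v j) (Pi.single j 1)).symm
  refine (D.map φ).exists_iso _ (fun i => (s i).hom) p (fun i x => ?_) (fun i v => ?_) (fun i v => ?_)
  · have h : s i ≫ ModuleCat.ofHom (p i) = 𝟙 _ := ModuleCat.ExtendScalars.hom_ext fun m => by
      show p i ((s i).hom _) = _
      rw [hs, key]
      exact congrArg (fun y => ((1 : S) ⊗ₜ[R,φ] y : F.obj (D.obj i))) (Subtype.ext ((D.mem_iff i _).1 m.2))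
    exact congr(($h).hom x)
  · refine LinearMap.congr_fun (f := (s i).hom.comp (p i)) (g := Matrix.mulVecLin ((D.e i).map φ)) ?_ v
    refine LinearMap.pi_ext' fun j => LinearMap.ext_ring ?_
    show (s i).hom (p i (Pi.single j 1)) = (D.e i).map φ *ᵥ Pi.single j 1
    rw [hp, hs]
    funext k
    show φ ((D.e i *ᵥ Pi.single j 1) k) = _
    simp [Matrix.mulVec_single_one]
  · refine LinearMap.congr_fun (f := (s (i + 1)).hom.comp ((F.map (D.cx.d i (i + 1))).hom.comp (p i)))
      (g := Matrix.mulVecLin ((D.d i).map φ)) ?_ v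
    refine LinearMap.pi_ext' fun j => LinearMap.ext_ring ?_
    show (s (i + 1)).hom ((F.map (D.cx.d i (i + 1))).hom (p i (Pi.single j 1))) = (D.d i).map φ *ᵥ Pi.single j 1
    rw [hp, D.cx_d]
    show (s (i + 1)).hom ((1 : S) ⊗ₜ[R,φ] (D.diff i).hom ((D.prj i).hom (Pi.single j 1)) : _) = _
    rw [hs]
    funext k
    show φ ((D.d i *ᵥ (D.e i *ᵥ Pi.single j 1)) k) = _
    rw [Matrix.mulVec_mulVec, D.de]
    simp [Matrix.mulVec_single_one]

end BaseChange

end Groth.Agent.PerfColim
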